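import Cfsg.Agent.Mrg.Omega.ML.LieRow.Bld
import Cfsg.Agent.FixBN.OfBN
import Cfsg.Agent.S0320
import Cfsg.Agent.H393.AltNoThree
import Cfsg.Agent.H996.AllSplit_m3
import Cfsg.Agent.FixBN.ReeSplit
import Cfsg.Agent.Nodes.RGDLie
import Cfsg.Agent.H248.DichRGD
import Cfsg.Agent.S1072
import Cfsg.Agent.S1073
import Cfsg.Agent.S1162
import Cfsg.Agent.Prune
set_option linter.all false

section
prune_inst 0x7f00000000000000000000000000000000000000000000000000000000000000000000000000000000000000000000000000000000000000000000000000000000000000000000000000000000000000003fffffffffffffffffffffffffffbeffbdffffffff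

-- part: H393/LieNoThree
section
set_option linter.all false
open scoped Cfsg.Agent.FastGrp

-- part: H393/LieBad
section
/-!
# Proper overgroups of a Sylow `p`-subgroup in a simple group of Lie type of characteristic `p`

They have a nontrivial normal `p`-subgroup.
-/

set_option autoImplicit false
set_option linter.unusedSectionVars false

open scoped Pointwise

namespace Cfsg.Agent.H393

open Cfsg.Agent.Tits.Core Cfsg.Agent.Tits.Core.Bldg Cfsg.Agent.Tits.Exchange Cfsg.Agent.Tits
open Cfsg.Agent.FixBN Cfsg.Agent.FixBN.Cox Cfsg.Agent.Omega.ML.LieRow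

section

variable {I : Type*} {M : CoxeterMatrix I} {W : Type*} [Group W] {cs : CoxeterSystem M W} {C : Type*}
  {Δ : Bldg cs C}

local prefix:100 "ℓ" => cs.length

variable {G : Type*} [Group G] [MulAction G C] {p : ℕ} (S : Sys Δ G p) [F : OppRes.Cox cs]

/-- two different chambers at the same nontrivial distance -/
theorem exists_two (hth : Δ.Thick) (x : C) {v : W} (hv : v ≠ 1) :
    ∃ y y' : C, y ≠ y' ∧ Δ.δ x y = v ∧ Δ.δ x y' = v := by
  obtain ⟨i, hi⟩ := cs.exists_rightDescent_of_ne_one hv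
  have hi' : ℓ (v * cs.simple i) < ℓ v := hi
  obtain ⟨z, hz⟩ := Δ.exists_δ x (v * cs.simple i)
  obtain ⟨a, b, hab, ha, hb⟩ := hth z i
  have hlt : ℓ (Δ.δ x z) < ℓ (Δ.δ x z * cs.simple i) := by
    rw [hz, mul_assoc, cs.simple_mul_simple_self, mul_one]
    exact hi'
  refine ⟨a, b, hab, ?_, ?_⟩
  · rw [Δ.step_lt x z a i ha hlt, hz, mul_assoc, cs.simple_mul_simple_self, mul_one]
  · rw [Δ.step_lt x z b i hb hlt, hz, mul_assoc, cs.simple_mul_simple_self, mul_one]

/-- the unipotent radical of a proper residue is nontrivial -/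
theorem exists_mem_UR (hth : Δ.Thick) (c : C) {J : Set I} (hJ : wJ cs J ≠ w0 cs) :
    ∃ u ∈ S.UR (Δ.Res J c), u ≠ 1 := by
  obtain ⟨c', hc'⟩ := Δ.exists_δ c (wJ cs J)
  have hv : (wJ cs J)⁻¹ * w0 cs ≠ 1 := by
    intro h
    apply hJ
    rw [inv_mul_eq_one] at h
    exact h
  obtain ⟨y, y', hne, hy, hy'⟩ := exists_two (Δ := Δ) hth c' hv
  have hl : ℓ (wJ cs J * ((wJ cs J)⁻¹ * w0 cs)) = ℓ (wJ cs J) + ℓ ((wJ cs J)⁻¹ * w0 cs) := by
    have h1 := F.len_mul_w0 (wJ cs J)⁻¹
    rw [cs.length_inv] at h1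
    rw [mul_inv_cancel_left]
    have h2 := F.len_mul_w0 (wJ cs J)
    omega
  have h1 : Δ.Opp c y := by
    have := Δ.δ_mul_of hc' hy hl
    rw [mul_inv_cancel_left] at this
    exact this
  have h2 : Δ.Opp c y' := by
    have := Δ.δ_mul_of hc' hy' hl
    rw [mul_inv_cancel_left] at this
    exact this
  obtain ⟨u, hu, huy⟩ := S.trans c y y' h1 h2
  have huc : u • c' = c' := by
    refine Δ.between_unique hl (x := c) (z := y') ?_ ?_ hc' hy'
    · rw [← hc', ← S.iso u c c', S.fix c u hu]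
    · rw [← huy, S.iso, hy]
  refine ⟨u, S.mem_UR_of_fix hth hu hc' huc, ?_⟩
  rintro rfl
  rw [one_smul] at huy
  exact hne huy

omit [Group G] [MulAction G C] in
theorem wJ_ne_w0 {J : Set I} (hJ : J ≠ Set.univ) : wJ cs J ≠ w0 cs := by
  intro h
  apply hJ
  rw [Set.eq_univ_iff_forall]
  intro i
  refine F.descent_mem J (wJ cs J) (F.wJ_mem J) i ?_
  rw [h]
  have h1 := F.len_w0_mul (cs.simple i)
  rw [cs.length_simple] at h1
  omega

/-- **Proper overgroups of `U c`.** -/
theorem exists_normal_of_U_le [Finite G] (hth : Δ.Thick) [hs : IsSimpleGroup G] [Nonempty I]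
    {R : Subgroup G} (hR : R ≠ ⊤) {c : C} (hU : S.U c ≤ R) :
    ∃ M : Subgroup G, M ≤ R ∧ M ≠ ⊥ ∧ IsPGroup p M ∧ R ≤ Subgroup.normalizer (M : Set G) := by
  have hJ : tp Δ R c ≠ Set.univ := fun h => hR (eq_top_of_tp S hth hU h)
  obtain ⟨u, hu, hu1⟩ := exists_mem_UR S hth c (wJ_ne_w0 (cs := cs) hJ)
  have hc : c ∈ Δ.Res (tp Δ R c) c := by
    rw [mem_Res, Δ.δ_self]
    exact one_mem _
  refine ⟨S.UR (Δ.Res (tp Δ R c) c), ?_, ?_, S.UR_isP ⟨c, hc⟩, ?_⟩
  · intro g hg
    exact hU (hg c hc)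
  · intro h
    rw [h, Subgroup.mem_bot] at hu
    exact hu1 hu
  · have key : ∀ g ∈ R, g • Δ.Res (tp Δ R c) c = Δ.Res (tp Δ R c) c := by
      intro g hg
      rw [S.smul_Res]
      have h1 := delta_mem_tp S hth hU g hg
      exact (Δ.Res_eq_of_mem (Δ.mem_Res.2 h1))
    intro g hg
    rw [Subgroup.mem_normalizer_iff]
    intro n
    have h1 := S.conj_mem_UR_iff (Q := Δ.Res (tp Δ R c) c) (u := n) (g := g)
    rw [key g hg] at h1
    exact h1.symm

end

/-- A simple group with a split (B,N)-pair of characteristic `p`. -/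
theorem noBad_of_hasSplit {K : Type*} [Group K] [Finite K] [IsSimpleGroup K] {p : ℕ} (hp : p.Prime)
    (h : HasSplit p K) : NoBad p p K := by
  have : Fact p.Prime := ⟨hp⟩
  obtain ⟨P, U, hne, h⟩ := h
  have hN : ((P.B ⊓ P.N).subgroupOf P.N).Normal := Tits.OfBN.normal_subgroupOf P
  obtain ⟨M, cs, hcs⟩ := S0320.result P
  have hI : Finite P.S := FixBN.OfBN.finite_I (Equiv.refl P.S)
  have hIn : Nonempty P.S := hne.to_subtype
  have S := FixBN.OfBN.sys (Equiv.refl P.S) cs hcs h
  have hth := Tits.OfBN.thick P (Equiv.refl P.S) cs hcs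
  intro R hR hpR _
  obtain ⟨Q⟩ : Nonempty (Sylow p R) := inferInstance
  have hQ : IsPGroup p ((Q : Subgroup R).map R.subtype) := Q.2.map R.subtype
  obtain ⟨c, hc⟩ := S.exists_fix _ hQ
  have h1 := S.max c _ hQ hc
  have hcard : Nat.card (S.U c) ≤ Nat.card ((Q : Subgroup R).map R.subtype) := by
    obtain ⟨k, hk⟩ := (IsPGroup.iff_card).1 (S.isP c)
    have h2 : p ^ k ∣ Nat.card R := by
      have h3 : p ^ k ∣ Nat.card R * R.index := by
        rw [Subgroup.card_mul_index, ← hk]
        exact Subgroup.card_subgroup_dvd_card _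
      exact Nat.Coprime.dvd_of_dvd_mul_right
        (Nat.Coprime.pow_left k ((Nat.Prime.coprime_iff_not_dvd hp).2 hpR)) h3
    rw [Subgroup.card_subtype, hk]
    refine Nat.le_of_dvd Nat.card_pos ?_
    exact Sylow.pow_dvd_card_of_pow_dvd_card Q h2
  have h2 : (Q : Subgroup R).map R.subtype = S.U c := Subgroup.eq_of_le_of_card_ge h1 hcard
  have h3 : S.U c ≤ R := by
    rw [← h2]
    exact Subgroup.map_subtype_le _
  obtain ⟨M, hM⟩ := exists_normal_of_U_le S hth hR h3
  exact ⟨p, hp, M, hM⟩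

end Cfsg.Agent.H393
end

-- part: H393/LieNoThree
section
/-!
# Simple groups of Lie type have no three proper subgroups of pairwise coprime indices
-/

set_option autoImplicit false

namespace Cfsg.Agent.H393

open Cfsg Cfsg.Agent.FixBN

/-- every simple group of Lie type has a split (B,N)-pair -/
theorem hasSplit_of_lie {p : ℕ} (hp : p.Prime) {K : Type*} [Group K] [IsSimpleGroup K]
    (h : IsLieTypeChar p K) : HasSplit p K := by
  rcases Nodes.RGDLie.hasRGD_of_lie h with h1 | ⟨rfl, -⟩ | ⟨rfl, -⟩ | ⟨rfl, h1⟩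
  · exact Omega.ML.LieRow.hasSplit_of_rgd hp h1
  · exact Omega.ML.LieRow.hasSplit_of_lie h
  · exact Omega.ML.LieRow.hasSplit_of_lie h
  · exact FixBN.ReeSplit.hasSplit_of_isoRee h1

theorem noBad_of_lie {p : ℕ} (hp : p.Prime) {K : Type*} [Group K] [Finite K] [IsSimpleGroup K]
    (h : IsLieTypeChar p K) : NoBad p p K :=
  noBad_of_hasSplit hp (hasSplit_of_lie hp h)

theorem noThree_of_lie {p : ℕ} (hp : p.Prime) {K : Type*} [Group K] [Finite K] [IsSimpleGroup K]
    (h : IsLieTypeChar p K) : NoThree K :=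
  (noBad_of_lie hp h).noThree hp hp

end Cfsg.Agent.H393
end
end

-- part: H567/DichLie
section
set_option linter.all false
open scoped Cfsg.Agent.FastGrp

/-!
# Subgroups of index prime to `p` with trivial `p`-core in groups of Lie type of characteristic `p` (helper567)

`dich_of_lie` : `IsLieTypeChar p K → Dich p K` (with helper248's `Dich` and helper393's overgroup theorem).
-/

set_option autoImplicit false
set_option linter.unusedSectionVars false

namespace Cfsg.Agent.H567.DichLie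

open Subgroup Cfsg Cfsg.Agent.H248.Ovg

theorem dich_of_hasSplit {K : Type*} [Group K] [Finite K] [IsSimpleGroup K] {p : ℕ} [hp : Fact p.Prime]
    (h : FixBN.HasSplit p K) : Dich p K := by
  obtain ⟨P, U, hne, h⟩ := h
  have hN : ((P.B ⊓ P.N).subgroupOf P.N).Normal := Tits.OfBN.normal_subgroupOf P
  obtain ⟨M, cs, hcs⟩ := S0320.result P
  have hI : Finite P.S := FixBN.OfBN.finite_I (Equiv.refl P.S)
  have hIn : Nonempty P.S := hne.to_subtype
  have S := FixBN.OfBN.sys (Equiv.refl P.S) cs hcs h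
  have hth := Tits.OfBN.thick P (Equiv.refl P.S) cs hcs
  refine Dich.of_eq_top fun R hR hpR => ?_
  by_contra hR1
  obtain ⟨Q⟩ : Nonempty (Sylow p R) := inferInstance
  have hQ : IsPGroup p ((Q : Subgroup R).map R.subtype) := Q.2.map R.subtype
  obtain ⟨c, hc⟩ := S.exists_fix _ hQ
  have h1 := S.max c _ hQ hc
  have hcard : Nat.card (S.U c) ≤ Nat.card ((Q : Subgroup R).map R.subtype) := by
    obtain ⟨k, hk⟩ := (IsPGroup.iff_card).1 (S.isP c)
    have h2 : p ^ k ∣ Nat.card R := by
      have h3 : p ^ k ∣ Nat.card R * R.index := by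
        rw [Subgroup.card_mul_index, ← hk]
        exact Subgroup.card_subgroup_dvd_card _
      exact Nat.Coprime.dvd_of_dvd_mul_right
        (Nat.Coprime.pow_left k ((Nat.Prime.coprime_iff_not_dvd hp.out).2 hpR)) h3
    rw [Subgroup.card_subtype, hk]
    refine Nat.le_of_dvd Nat.card_pos ?_
    exact Sylow.pow_dvd_card_of_pow_dvd_card Q h2
  have h2 : (Q : Subgroup R).map R.subtype = S.U c := Subgroup.eq_of_le_of_card_ge h1 hcard
  have h3 : S.U c ≤ R := by
    rw [← h2]
    exact Subgroup.map_subtype_le _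
  obtain ⟨M, hM1, hM2, hM3, hM4⟩ := H393.exists_normal_of_U_le S hth hR1 h3
  exact false_of_pCore hR hM2 hM3 hM1 hM4

/-- **the groups of Lie type of characteristic `p`** -/
theorem dich_of_lie {p : ℕ} [Fact p.Prime] {K : Type*} [Group K] [Finite K] (h : IsLieTypeChar p K) : Dich p K := by
  rcases Nodes.RGDLie.hasRGD_of_lie h with h1 | ⟨rfl, h1⟩ | ⟨rfl, h1⟩ | ⟨rfl, h1⟩
  · exact dich_of_hasRGD h1
  · have hs : IsSimpleGroup K := by
      obtain ⟨F, _, _, m, hm, hF, ⟨e⟩⟩ := h1
      have := S1162.result hm hF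
      exact e.isSimpleGroup
    exact dich_of_hasSplit (H393.hasSplit_of_lie Nat.prime_two h)
  · have hs : IsSimpleGroup K := by
      obtain ⟨F, _, _, m, hm, hF, ⟨e⟩⟩ := h1
      have := (S1072.result hm hF).1
      exact e.isSimpleGroup
    exact dich_of_hasSplit (H393.hasSplit_of_lie Nat.prime_two h)
  · have hs : IsSimpleGroup K := by
      obtain ⟨F, _, _, m, hm, hF, ⟨e⟩⟩ := h1
      have := (S1073.result hm hF).1
      exact e.isSimpleGroup
    exact dich_of_hasSplit (H393.hasSplit_of_lie Nat.prime_three h)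

end Cfsg.Agent.H567.DichLie
end
end
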