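import Cfsg.Agent.H603.SporElim
import Cfsg.Agent.H567.GapPSU
import Cfsg.Agent.H573.Spor.He
import Cfsg.Agent.H573.Spor.FiSeven
import Cfsg.Agent.H573.Spor.ONSeven
import Cfsg.Agent.H573.Spor.MSeven
import Cfsg.Agent.H573.Spor.JFour
import Cfsg.Agent.H567.GapGU
import Cfsg.Agent.H372.FourList_m3
import Cfsg.Agent.S0286
import Cfsg.Agent.S0287
import Cfsg.Agent.S0288
import Cfsg.Agent.S0292
import Cfsg.Agent.S0293
import Cfsg.Agent.S0294
import Cfsg.Agent.H376.SpEmb
import Cfsg.Agent.S0245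
import Cfsg.Agent.H499.WreathDl
import Cfsg.Agent.H573.DefCharLie
import Cfsg.Agent.H778.ExcMain
import Cfsg.Agent.Prune
set_option linter.all false

section
prune_inst 0x7f00000000000000000000000000000000000000000000000000000000000000000000000000000000000000000000000000000000000000000000000000000000000000000000000000000000000000003fffffffffffffffffffffffffffbeffbdffffffff

-- part: H567/PCentSpor
section
set_option linter.all false
open scoped Cfsg.Agent.FastGrp

/-!
# Sporadic groups, `p ≥ 7` (helper567)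

`spor_seven` : a sporadic simple group all of whose `p`-elements have class size prime to `p`, `p ≥ 7`, has abelian Sylow
`p`-subgroups (rows of helper573).
-/

set_option autoImplicit false

namespace Cfsg.Agent.H567.PCentSpor

open Cfsg Cfsg.Agent.NotCT Cfsg.Agent.H573

/-- the primes at least seven which divide the order of a sporadic group, with multiplicity at most two -/
theorem comm_of_card {G : Type*} [Group G] {p : ℕ} [hp : Fact p.Prime] (h7 : 7 ≤ p) {N a b c : ℕ} (L : List ℕ)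
    (hN : Nat.card G = N) (hN0 : N ≠ 0) (hf : N = 2 ^ a * 3 ^ b * 5 ^ c * L.prod) (hL : ∀ r ∈ L, r.Prime)
    (B : List ℕ) (h3 : ∀ r ∈ L, r ∈ B ∨ L.count r ≤ 2) (hB : p ∉ B) (P : Sylow p G) :
    IsMulCommutative (P : Subgroup G) := by
  have hfin : Finite G := Nat.finite_of_card_ne_zero (by rw [hN]; exact hN0)
  refine ⟨⟨H567.Gap.comm_of_not_cube_dvd ?_ P⟩⟩
  rw [hN, hf]
  intro h
  -- `p ^ 3` divides the product of the list
  have h1 : p ^ 3 ∣ L.prod := by
    have h2 : ∀ (r e m : ℕ), r.Prime → r ≠ p → p ^ 3 ∣ r ^ e * m → p ^ 3 ∣ m := by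
      intro r e m hr hrp hd
      refine (Nat.Coprime.pow_left 3 (Nat.Coprime.pow_right e ?_)).dvd_of_dvd_mul_left hd
      exact (Nat.coprime_primes hp.out hr).2 (Ne.symm hrp)
    have h3 := h
    rw [mul_assoc, mul_assoc] at h3
    exact h2 5 c _ (by norm_num) (by omega) (h2 3 b _ (by norm_num) (by omega) (h2 2 a _ (by norm_num) (by omega) h3))
  -- the exponent of `p` in the product of a list of primes
  have key : ∀ (L : List ℕ), (∀ r ∈ L, r.Prime) → ∀ k, p ^ k ∣ L.prod → k ≤ L.count p := by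
    intro L
    induction L with
    | nil =>
      intro _ k hk
      rw [List.prod_nil, Nat.dvd_one] at hk
      rcases Nat.eq_zero_or_pos k with rfl | hk0
      · exact Nat.zero_le _
      · have := Nat.one_lt_pow hk0.ne' hp.out.one_lt
        omega
    | cons r L ih =>
      intro hL k hk
      have hr := hL r List.mem_cons_self
      have hL' : ∀ s ∈ L, s.Prime := fun s hs => hL s (List.mem_cons_of_mem r hs)
      rw [List.prod_cons] at hk
      by_cases hrp : r = p
      · subst hrp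
        rw [List.count_cons_self]
        rcases Nat.eq_zero_or_pos k with rfl | hk0
        · exact Nat.zero_le _
        · obtain ⟨j, rfl⟩ : ∃ j, k = j + 1 := ⟨k - 1, by omega⟩
          rw [pow_succ', Nat.mul_dvd_mul_iff_left hp.out.pos] at hk
          have := ih hL' j hk
          omega
      · have h2 : p ^ k ∣ L.prod :=
          (Nat.Coprime.pow_left k ((Nat.coprime_primes hp.out hr).2 (Ne.symm hrp))).dvd_of_dvd_mul_left hk
        have h3 := ih hL' k h2
        rw [List.count_cons_of_ne hrp]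
        exact h3
  have h2 := key L hL 3 h1
  by_cases hp1 : p ∈ L
  · rcases h3 p hp1 with h4 | h4
    · exact hB h4
    · omega
  · rw [List.count_eq_zero_of_not_mem hp1] at h2
    omega

/-- **Sporadic groups, `p ≥ 7`.** -/
theorem spor_seven {G : Type*} [Group G] (hG : IsSporadicGroup G) {p : ℕ} [hp : Fact p.Prime] (h7 : 7 ≤ p)
    (hc : PCent p G) (P : Sylow p G) : IsMulCommutative (P : Subgroup G) := by
  rcases hG with h | h | h | h | h | h | h | h | h | h | h | h | h | h | h | h | h | h | h | h | h | h | h | h | h | h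
  · exact comm_of_card h7 (a := 4) (b := 2) (c := 1) [11] (Orders.m11 h) (by norm_num) (by norm_num) (by norm_num)
      [] (by decide) (by simp) P
  · exact comm_of_card h7 (a := 6) (b := 3) (c := 1) [11] (Orders.m12 h) (by norm_num) (by norm_num) (by norm_num)
      [] (by decide) (by simp) P
  · exact comm_of_card h7 (a := 7) (b := 2) (c := 1) [7, 11] (Orders.m22 h) (by norm_num) (by norm_num) (by norm_num)
      [] (by decide) (by simp) P
  · exact comm_of_card h7 (a := 7) (b := 2) (c := 1) [7, 11, 23] (Orders.m23 h) (by norm_num) (by norm_num) (by norm_num)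
      [] (by decide) (by simp) P
  · exact comm_of_card h7 (a := 10) (b := 3) (c := 1) [7, 11, 23] (Orders.m24 h) (by norm_num) (by norm_num) (by norm_num)
      [] (by decide) (by simp) P
  · exact comm_of_card h7 (a := 3) (b := 1) (c := 1) [7, 11, 19] (Orders.j1 h) (by norm_num) (by norm_num) (by norm_num)
      [] (by decide) (by simp) P
  · exact comm_of_card h7 (a := 7) (b := 3) (c := 2) [7] (Orders.j2 h) (by norm_num) (by norm_num) (by norm_num)
      [] (by decide) (by simp) P
  · exact comm_of_card h7 (a := 7) (b := 5) (c := 1) [17, 19] (Orders.j3 h) (by norm_num) (by norm_num) (by norm_num)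
      [] (by decide) (by simp) P
  · by_cases hp11 : p = 11
    · subst hp11; exact Spor.j4_11 h hc P
    exact comm_of_card h7 (a := 21) (b := 3) (c := 1) [7, 11, 11, 11, 23, 29, 31, 37, 43] (Orders.j4 h) (by norm_num) (by norm_num) (by norm_num)
      [11] (by decide) (by simp only [List.mem_cons, List.not_mem_nil, or_false]; exact hp11) P
  · exact comm_of_card h7 (a := 21) (b := 9) (c := 4) [7, 7, 11, 13, 23] (Orders.co1 h) (by norm_num) (by norm_num) (by norm_num)
      [] (by decide) (by simp) P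
  · exact comm_of_card h7 (a := 18) (b := 6) (c := 3) [7, 11, 23] (Orders.co2 h) (by norm_num) (by norm_num) (by norm_num)
      [] (by decide) (by simp) P
  · exact comm_of_card h7 (a := 10) (b := 7) (c := 3) [7, 11, 23] (Orders.co3 h) (by norm_num) (by norm_num) (by norm_num)
      [] (by decide) (by simp) P
  · exact comm_of_card h7 (a := 7) (b := 6) (c := 3) [7, 11] (Orders.mcl h) (by norm_num) (by norm_num) (by norm_num)
      [] (by decide) (by simp) P
  · exact comm_of_card h7 (a := 9) (b := 2) (c := 3) [7, 11] (Orders.hs h) (by norm_num) (by norm_num) (by norm_num)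
      [] (by decide) (by simp) P
  · exact comm_of_card h7 (a := 13) (b := 7) (c := 2) [7, 11, 13] (Orders.suz h) (by norm_num) (by norm_num) (by norm_num)
      [] (by decide) (by simp) P
  · by_cases hp7 : p = 7
    · subst hp7; exact absurd hc (Spor.he_7 h)
    exact comm_of_card h7 (a := 10) (b := 3) (c := 2) [7, 7, 7, 17] (Orders.he h) (by norm_num) (by norm_num) (by norm_num)
      [7] (by decide) (by simp only [List.mem_cons, List.not_mem_nil, or_false]; exact hp7) P
  · exact comm_of_card h7 (a := 14) (b := 3) (c := 3) [7, 13, 29] (Orders.ru h) (by norm_num) (by norm_num) (by norm_num)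
      [] (by decide) (by simp) P
  · by_cases hp7 : p = 7
    · subst hp7; exact Spor.on_7 h hc P
    exact comm_of_card h7 (a := 9) (b := 4) (c := 1) [7, 7, 7, 11, 19, 31] (Orders.on h) (by norm_num) (by norm_num) (by norm_num)
      [7] (by decide) (by simp only [List.mem_cons, List.not_mem_nil, or_false]; exact hp7) P
  · exact comm_of_card h7 (a := 8) (b := 7) (c := 6) [7, 11, 31, 37, 67] (Orders.ly h) (by norm_num) (by norm_num) (by norm_num)
      [] (by decide) (by simp) P
  · exact comm_of_card h7 (a := 17) (b := 9) (c := 2) [7, 11, 13] (Orders.fi22 h) (by norm_num) (by norm_num) (by norm_num)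
      [] (by decide) (by simp) P
  · exact comm_of_card h7 (a := 18) (b := 13) (c := 2) [7, 11, 13, 17, 23] (Orders.fi23 h) (by norm_num) (by norm_num) (by norm_num)
      [] (by decide) (by simp) P
  · by_cases hp7 : p = 7
    · subst hp7; exact absurd hc (Spor.fi24_7 h)
    exact comm_of_card h7 (a := 21) (b := 16) (c := 2) [7, 7, 7, 11, 13, 17, 23, 29] (Orders.fi24 h) (by norm_num) (by norm_num) (by norm_num)
      [7] (by decide) (by simp only [List.mem_cons, List.not_mem_nil, or_false]; exact hp7) P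
  · exact comm_of_card h7 (a := 14) (b := 6) (c := 6) [7, 11, 19] (Orders.hn h) (by norm_num) (by norm_num) (by norm_num)
      [] (by decide) (by simp) P
  · exact comm_of_card h7 (a := 15) (b := 10) (c := 3) [7, 7, 13, 19, 31] (Orders.th h) (by norm_num) (by norm_num) (by norm_num)
      [] (by decide) (by simp) P
  · exact comm_of_card h7 (a := 41) (b := 13) (c := 6) [7, 7, 11, 13, 17, 19, 23, 31, 47] (Orders.b h) (by norm_num) (by norm_num) (by norm_num)
      [] (by decide) (by simp) P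
  · by_cases hp7 : p = 7
    · subst hp7; exact absurd hc (Spor.m_7 h)
    by_cases hp13 : p = 13
    · subst hp13; exact Spor.m_13 h hc P
    exact comm_of_card h7 (a := 46) (b := 20) (c := 9) [7, 7, 7, 7, 7, 7, 11, 11, 13, 13, 13, 17, 19, 23, 29, 31, 41, 47, 59, 71] (Orders.m h) (by norm_num) (by norm_num) (by norm_num)
      [7, 13] (by decide) (by simp only [List.mem_cons, List.not_mem_nil, or_false]; push Not; exact ⟨hp7, hp13⟩) P

end Cfsg.Agent.H567.PCentSpor
end

-- part: H567/PCentSeven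
section
set_option linter.all false
open scoped Cfsg.Agent.FastGrp

-- part: H567/GapOrth
section
/-!
# Orthogonal groups in cross characteristic: abelian Sylow subgroups or an exponent gap (helper567)
-/

set_option autoImplicit false
set_option linter.unusedSectionVars false

namespace Cfsg.Agent.H567.Gap

open Finset Cfsg
open Cfsg.Agent.LieClassical.OmegaReindex Cfsg.Agent.H372

section
variable {F : Type} [Field F] [Fintype F] {p q : ℕ} [hp : Fact p.Prime]

/-- `Fin m ⊕ Fin m` and `Fin 1 ⊕ Fin 1` -/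
def plusEquiv (m : ℕ) : (Fin m ⊕ Fin m) ⊕ (Fin 1 ⊕ Fin 1) ≃ Fin (m + 1) ⊕ Fin (m + 1) :=
  (Equiv.sumSumSumComm (Fin m) (Fin m) (Fin 1) (Fin 1)).trans (Equiv.sumCongr finSumFinEquiv finSumFinEquiv)

theorem quadFormPlus_split (m : ℕ) (v : Fin (m + 1) ⊕ Fin (m + 1) → F) :
    quadFormPlus (m + 1) F v = sumQ (quadFormPlus m F) (quadFormPlus 1 F) (v ∘ plusEquiv m) := by
  unfold quadFormPlus sumQ
  rw [Fin.sum_univ_castSucc]
  simp only [plusEquiv, Equiv.sumSumSumComm, _root_.Equiv.sumComm_apply, _root_.Equiv.sumComm_symm, _root_.Equiv.coe_trans, _root_.Equiv.coe_fn_mk, _root_.Function.comp_apply, _root_.Equiv.sumAssoc_symm_apply_inl, _root_.Sum.map_inl, _root_.Equiv.sumAssoc_apply_inl_inl, _root_.id_eq, _root_.Equiv.sumCongr_apply, _root_.finSumFinEquiv_apply_left, _root_.Equiv.sumAssoc_apply_inl_inr, _root_.Sum.map_inr, _root_.Sum.swap_inl, _root_.Equiv.sumAssoc_symm_apply_inr_inr, _root_.Finset.univ_unique, _root_.Fin.default_eq_zero, _root_.Fin.isValue, _root_.Equiv.sumAssoc_symm_apply_inr_inl,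 _root_.Equiv.sumAssoc_apply_inr, _root_.Sum.swap_inr, _root_.finSumFinEquiv_apply_right, _root_.Finset.sum_singleton]
  rfl

theorem exists_plus_hom (m : ℕ) : ∃ f : isometryGroup F (quadFormPlus m F) →* isometryGroup F (quadFormPlus (m + 1) F),
    Function.Injective f := by
  let e := isometryGroupReindex (F := F) (plusEquiv m) (sumQ (quadFormPlus m F) (quadFormPlus 1 F))
    (quadFormPlus (m + 1) F) (quadFormPlus_split m)
  exact ⟨e.toMonoidHom.comp (isoInl _ _), e.injective.comp (isoInl_injective _ _)⟩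

/-- rearrangement for the minus form -/
def minusEquiv (m : ℕ) : ((Fin m ⊕ Fin m) ⊕ Fin 2) ⊕ (Fin 1 ⊕ Fin 1) ≃ (Fin (m + 1) ⊕ Fin (m + 1)) ⊕ Fin 2 :=
  (Equiv.sumAssoc _ _ _).trans ((Equiv.sumCongr (Equiv.refl _) (Equiv.sumComm _ _)).trans
    ((Equiv.sumAssoc _ _ _).symm.trans (Equiv.sumCongr (plusEquiv m) (Equiv.refl _))))

theorem quadFormMinus_split (m : ℕ) (a b : F) (v : (Fin (m + 1) ⊕ Fin (m + 1)) ⊕ Fin 2 → F) :
    quadFormMinus (m + 1) F a b v = sumQ (quadFormMinus m F a b) (quadFormPlus 1 F) (v ∘ minusEquiv m) := by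
  have h := quadFormPlus_split m (F := F) (v ∘ Sum.inl)
  rw [quadFormMinus_eq, sumQ, h]
  simp only [sumQ]
  rw [quadFormMinus_eq]
  simp only [sumQ]
  rw [add_right_comm]
  rfl

theorem exists_minus_hom (m : ℕ) (a b : F) :
    ∃ f : isometryGroup F (quadFormMinus m F a b) →* isometryGroup F (quadFormMinus (m + 1) F a b),
    Function.Injective f := by
  let e := isometryGroupReindex (F := F) (minusEquiv m) (sumQ (quadFormMinus m F a b) (quadFormPlus 1 F))
    (quadFormMinus (m + 1) F a b) (quadFormMinus_split m a b)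
  exact ⟨e.toMonoidHom.comp (isoInl _ _), e.injective.comp (isoInl_injective _ _)⟩

/-- the Levi subgroup of the plus type group -/
def leviPlus (m : ℕ) : Matrix.GeneralLinearGroup (Fin m) F →* isometryGroup F (quadFormPlus m F) :=
  (leviGL m).codRestrict _ (leviGL_mem m)

theorem leviPlus_injective (m : ℕ) : Function.Injective (leviPlus (F := F) m) := by
  intro a b h
  exact leviGL_injective m (congrArg Subtype.val h)

/-! ### The isometry groups -/

variable (hF : Fintype.card F = q) (hp2 : p ≠ 2) (hpq : ¬ p ∣ q)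
include hF hp2 hpq

theorem not_dvd_two_pow (N : ℕ) : ¬ p ∣ 2 * q ^ N :=
  hp.out.not_dvd_mul (fun h => hp2 ((Nat.prime_dvd_prime_iff_eq hp.out Nat.prime_two).1 h)) (not_dvd_base hpq N)

theorem q_pos' : 0 < q := by rw [← hF]; exact Fintype.card_pos

theorem abOrGap_isoOdd (hodd : Odd q) (m : ℕ) : AbOrGap p (isometryGroup F (quadFormOdd m F)) := by
  have hq : 0 < q := q_pos' hF hp2 hpq
  have hc := Cfsg.Agent.S0286.result hF hodd m
  rcases Nat.even_or_odd (orderOf (q : ZMod p)) with hev | ho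
  · refine AbOrGap.of_le_GL (n := 2 * m + 1) hF hpq (by simp only [_root_.Fintype.card_sum, _root_.Fintype.card_unique, _root_.Fintype.card_fin]; ring) (Subgroup.subtype _) (Subgroup.subtype_injective _) ?_
    refine PLe.mk' (OO q (m + 1)) (BB q m) ?_ (not_dvd_OO hq rfl hev _) ?_
    · rw [AA_succ, AA_two_mul, OO_succ]; ring
    · rw [hc]; exact Dvd.intro_left _ rfl
  · refine AbOrGap.of_GL_le (n := m) hF hpq ((isoInr (fun v : Unit → F => v () ^ 2) (quadFormPlus m F)).comp (leviPlus m))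
      ((isoInr_injective _ _).comp (leviPlus_injective m)) ?_
    refine PLe.mk' (2 * q ^ (m ^ 2) * SS q m) (AA q m) ?_ (hp.out.not_dvd_mul (not_dvd_two_pow hF hp2 hpq _)
      (not_dvd_SS hq hp2 rfl ho _)) dvd_rfl
    rw [hc]
    have h := BB_eq q m
    unfold BB at h
    rw [h]; ring

theorem abOrGap_isoPlus_of (hev : Even (orderOf (q : ZMod p))) {m : ℕ} (hm : 1 ≤ m) (h : ¬ p ∣ q ^ m + 1) :
    AbOrGap p (isometryGroup F (quadFormPlus m F)) := by
  have hq : 0 < q := q_pos' hF hp2 hpq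
  have hc := Cfsg.Agent.S0287.result hF m hm
  obtain ⟨k, rfl⟩ : ∃ k, m = k + 1 := ⟨m - 1, by omega⟩
  refine AbOrGap.of_le_GL (n := 2 * (k + 1)) hF hpq (by simp; ring) (Subgroup.subtype _) (Subgroup.subtype_injective _) ?_
  refine PLe.mk' (OO q (k + 1) * (q ^ (k + 1) + 1)) (BB q k * (q ^ (k + 1) - 1)) ?_
    (hp.out.not_dvd_mul (not_dvd_OO hq rfl hev _) h) ?_
  · rw [AA_two_mul, BB_succ, sq_sub_one]; ring
  · rw [hc]
    exact ⟨2 * q ^ ((k + 1) * (k + 1 - 1)), by rw [BB]; simp only [Nat.add_sub_cancel]; ring⟩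

theorem not_both (hev : Even (orderOf (q : ZMod p))) {m : ℕ} (h : q ^ (m + 1) ≡ q ^ m [MOD p]) : False := by
  have hq : 0 < q := q_pos' hF hp2 hpq
  have h1 : q ≡ 1 [MOD p] := by
    have h2 : q ^ m * q ≡ q ^ m * 1 [MOD p] := by rwa [← pow_succ, mul_one]
    exact Nat.ModEq.cancel_left_of_coprime
      (Nat.Coprime.gcd_eq_one ((Nat.Prime.coprime_iff_not_dvd hp.out).2 (not_dvd_base hpq m))) h2
  have h2 : (q : ZMod p) = 1 := by
    have := (ZMod.natCast_eq_natCast_iff q 1 p).2 h1
    simpa only [_root_.Nat.cast_one] using this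
  rw [h2, orderOf_one] at hev
  exact absurd hev (by decide)

theorem abOrGap_isoPlus (m : ℕ) (hm : 2 ≤ m) : AbOrGap p (isometryGroup F (quadFormPlus m F)) := by
  have hq : 0 < q := q_pos' hF hp2 hpq
  have hc := Cfsg.Agent.S0287.result hF m (by omega)
  obtain ⟨k, rfl⟩ : ∃ k, m = k + 1 := ⟨m - 1, by omega⟩
  rcases Nat.even_or_odd (orderOf (q : ZMod p)) with hev | ho
  · by_cases h : p ∣ q ^ (k + 1) + 1
    swap
    · exact abOrGap_isoPlus_of hF hp2 hpq hev (by omega) h
    have hk : 1 ≤ k := by omega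
    have h1 : ¬ p ∣ q ^ k + 1 := by
      intro h1
      refine not_both hF hp2 hpq hev (m := k) ?_
      have h2 : q ^ (k + 1) + 1 ≡ q ^ k + 1 [MOD p] :=
        ((Nat.modEq_zero_iff_dvd).2 h).trans ((Nat.modEq_zero_iff_dvd).2 h1).symm
      exact Nat.ModEq.add_right_cancel' 1 h2
    obtain ⟨f, hf⟩ := exists_plus_hom (F := F) k
    refine AbOrGap.map f (ker_of_injective hf) ?_ (abOrGap_isoPlus_of hF hp2 hpq hev hk h1)
    have hc' := Cfsg.Agent.S0287.result hF k hk
    obtain ⟨l, rfl⟩ : ∃ l, k = l + 1 := ⟨k - 1, by omega⟩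
    have h3 : ¬ p ∣ q ^ (l + 1 + 1) - 1 := by
      intro h3
      have h4 : 1 ≤ q ^ (l + 1 + 1) := Nat.one_le_pow _ _ hq
      have h6 : p ∣ 2 := by
        have h7 := Nat.dvd_sub h h3
        have h8 : q ^ (l + 1 + 1) + 1 - (q ^ (l + 1 + 1) - 1) = 2 := by omega
        rwa [h8] at h7
      exact hp2 ((Nat.prime_dvd_prime_iff_eq hp.out Nat.prime_two).1 h6)
    refine PLe.mk' (2 * q ^ ((l + 1 + 1) * (l + 1)) * (q ^ (l + 1 + 1) - 1) * (q ^ (l + 1) + 1))
      ((q ^ (l + 1) - 1) * BB q l) ?_ (hp.out.not_dvd_mul (hp.out.not_dvd_mul (not_dvd_two_pow hF hp2 hpq _) h3) h1) ?_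
    · rw [hc]
      have h5 := BB_succ q l
      rw [sq_sub_one] at h5
      unfold BB at h5
      simp only [Nat.add_sub_cancel]
      rw [h5, BB]; ring
    · rw [hc', BB]
      simp only [Nat.add_sub_cancel]
      exact ⟨2 * q ^ ((l + 1) * l), by ring⟩
  · refine AbOrGap.of_GL_le (n := k + 1) hF hpq (leviPlus (k + 1)) (leviPlus_injective (k + 1)) ?_
    refine PLe.mk' (2 * q ^ ((k + 1) * k) * SS q k) (AA q (k + 1)) ?_ (hp.out.not_dvd_mul (not_dvd_two_pow hF hp2 hpq _)
      (not_dvd_SS hq hp2 rfl ho _)) dvd_rfl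
    rw [hc]
    have h := BB_eq q k
    unfold BB at h
    simp only [Nat.add_sub_cancel]
    rw [h, AA_succ]; ring

theorem abOrGap_isoMinus_of (hev : Even (orderOf (q : ZMod p))) {m : ℕ} (hm : 1 ≤ m) (h : ¬ p ∣ q ^ m - 1)
    (a b : F) (hab : ∀ z₁ z₂ : F, z₁ ^ 2 + a * z₁ * z₂ + b * z₂ ^ 2 = 0 → z₁ = 0 ∧ z₂ = 0) :
    AbOrGap p (isometryGroup F (quadFormMinus (m - 1) F a b)) := by
  have hq : 0 < q := q_pos' hF hp2 hpq
  have hc := Cfsg.Agent.S0288.result hF m hm a b hab
  obtain ⟨k, rfl⟩ : ∃ k, m = k + 1 := ⟨m - 1, by omega⟩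
  refine AbOrGap.of_le_GL (n := 2 * (k + 1)) hF hpq (by simp only [_root_.add_tsub_cancel_right, _root_.Fintype.card_sum, _root_.Fintype.card_fin]; ring) (Subgroup.subtype _) (Subgroup.subtype_injective _) ?_
  refine PLe.mk' (OO q (k + 1) * (q ^ (k + 1) - 1)) (BB q k * (q ^ (k + 1) + 1)) ?_
    (hp.out.not_dvd_mul (not_dvd_OO hq rfl hev _) h) ?_
  · rw [AA_two_mul, BB_succ, sq_sub_one]; ring
  · rw [hc]
    exact ⟨2 * q ^ ((k + 1) * (k + 1 - 1)), by rw [BB]; simp only [Nat.add_sub_cancel]; ring⟩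

theorem abOrGap_isoMinus {m : ℕ} (hm : 2 ≤ m) 
    (a b : F) (hab : ∀ z₁ z₂ : F, z₁ ^ 2 + a * z₁ * z₂ + b * z₂ ^ 2 = 0 → z₁ = 0 ∧ z₂ = 0) :
    AbOrGap p (isometryGroup F (quadFormMinus (m - 1) F a b)) := by
  have hq : 0 < q := q_pos' hF hp2 hpq
  have hc := Cfsg.Agent.S0288.result hF m (by omega) a b hab
  obtain ⟨l, rfl⟩ : ∃ l, m = l + 1 + 1 := ⟨m - 2, by omega⟩
  rcases Nat.even_or_odd (orderOf (q : ZMod p)) with hev | ho
  · by_cases h : p ∣ q ^ (l + 1 + 1) - 1
    swap
    · exact abOrGap_isoMinus_of hF hp2 hpq hev (by omega) h a b hab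
    have h1 : ¬ p ∣ q ^ (l + 1) - 1 := by
      intro h1
      refine not_both hF hp2 hpq hev (m := l + 1) ?_
      have h2 : q ^ (l + 1 + 1) - 1 ≡ q ^ (l + 1) - 1 [MOD p] :=
        ((Nat.modEq_zero_iff_dvd).2 h).trans ((Nat.modEq_zero_iff_dvd).2 h1).symm
      have h3 := Nat.ModEq.add_right 1 h2
      rwa [Nat.sub_add_cancel (Nat.one_le_pow _ _ hq), Nat.sub_add_cancel (Nat.one_le_pow _ _ hq)] at h3
    obtain ⟨f, hf⟩ := exists_minus_hom (F := F) l a b
    refine AbOrGap.map f (ker_of_injective hf) ?_ (abOrGap_isoMinus_of hF hp2 hpq hev (m := l + 1) (by omega) h1 a b hab)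
    have hc' := Cfsg.Agent.S0288.result hF (l + 1) (by omega) a b hab
    have h3 : ¬ p ∣ q ^ (l + 1 + 1) + 1 := by
      intro h3
      have h4 : 1 ≤ q ^ (l + 1 + 1) := Nat.one_le_pow _ _ hq
      have h6 : p ∣ 2 := by
        have h7 := Nat.dvd_sub h3 h
        have h8 : q ^ (l + 1 + 1) + 1 - (q ^ (l + 1 + 1) - 1) = 2 := by omega
        rwa [h8] at h7
      exact hp2 ((Nat.prime_dvd_prime_iff_eq hp.out Nat.prime_two).1 h6)
    refine PLe.mk' (2 * q ^ ((l + 1 + 1) * (l + 1)) * (q ^ (l + 1 + 1) + 1) * (q ^ (l + 1) - 1))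
      ((q ^ (l + 1) + 1) * BB q l) ?_ (hp.out.not_dvd_mul (hp.out.not_dvd_mul (not_dvd_two_pow hF hp2 hpq _) h3) h1) ?_
    · refine hc.trans ?_
      have h5 := BB_succ q l
      rw [sq_sub_one] at h5
      unfold BB at h5
      simp only [Nat.add_sub_cancel]
      rw [h5, BB]; ring
    · refine ⟨2 * q ^ ((l + 1) * l), hc'.trans ?_⟩
      rw [BB]
      simp only [Nat.add_sub_cancel]
      ring
  · refine (AbOrGap.of_GL_le (n := l + 1) hF hpq ((isoInl (quadFormPlus (l + 1) F)
      (fun z : Fin 2 → F => z 0 ^ 2 + a * z 0 * z 1 + b * z 1 ^ 2)).comp (leviPlus (l + 1)))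
      ((isoInl_injective _ _).comp (leviPlus_injective (l + 1))) ?_ :)
    refine PLe.mk' (2 * q ^ ((l + 1 + 1) * (l + 1)) * SS q (l + 1) * (q ^ (l + 1 + 1) + 1)) (AA q (l + 1)) ?_
      (hp.out.not_dvd_mul (hp.out.not_dvd_mul (not_dvd_two_pow hF hp2 hpq _)
      (not_dvd_SS hq hp2 rfl ho _)) (not_dvd_add_one hq hp2 rfl ho _)) dvd_rfl
    refine hc.trans ?_
    have h := BB_eq q (l + 1)
    unfold BB at h
    simp only [Nat.add_sub_cancel]
    rw [h]; ring

/-! ### The simple groups -/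

theorem not_dvd_two : ¬ p ∣ 2 := fun h => hp2 ((Nat.prime_dvd_prime_iff_eq hp.out Nat.prime_two).1 h)

theorem not_dvd_gcd_four (n : ℕ) : ¬ p ∣ Nat.gcd 4 n := by
  intro h
  have h1 : p ∣ 2 ^ 2 := h.trans (Nat.gcd_dvd_left 4 n)
  exact not_dvd_two hF hp2 hpq (hp.out.dvd_of_dvd_pow h1)

/-- **Odd-dimensional orthogonal groups.** -/
theorem abOrGap_POmegaOdd (hodd : Odd q) {m : ℕ} (hm : 3 ≤ m) : AbOrGap p (POmega F (quadFormOdd m F)) := by
  have h1 := Cfsg.Agent.S0286.result hF hodd m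
  have h2 := Cfsg.Agent.S0292.result hF hodd m hm
  refine AbOrGap.section (c := 2 * 2) (Omega F (quadFormOdd m F)) (Subgroup.center _) ?_
    (hp.out.not_dvd_mul (not_dvd_two hF hp2 hpq) (not_dvd_two hF hp2 hpq)) (abOrGap_isoOdd hF hp2 hpq hodd m)
  rw [h1, mul_assoc, ← h2]
  ring

/-- **Orthogonal groups of plus type.** -/
theorem abOrGap_POmegaPlus {m : ℕ} (hm : 4 ≤ m) : AbOrGap p (POmega F (quadFormPlus m F)) := by
  have h1 := Cfsg.Agent.S0287.result hF m (by omega)
  have h2 := Cfsg.Agent.S0293.result hF m hm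
  refine AbOrGap.section (c := 2 * Nat.gcd 4 (q ^ m - 1)) (Omega F (quadFormPlus m F)) (Subgroup.center _) ?_
    (hp.out.not_dvd_mul (not_dvd_two hF hp2 hpq) (not_dvd_gcd_four hF hp2 hpq _)) (abOrGap_isoPlus hF hp2 hpq m (by omega))
  rw [h1, mul_assoc 2 (Nat.gcd _ _), h2]
  ring

/-- **Orthogonal groups of minus type.** -/
theorem abOrGap_POmegaMinus {m : ℕ} (hm : 4 ≤ m)
    (a b : F) (hab : ∀ z₁ z₂ : F, z₁ ^ 2 + a * z₁ * z₂ + b * z₂ ^ 2 = 0 → z₁ = 0 ∧ z₂ = 0) :
    AbOrGap p (POmega F (quadFormMinus (m - 1) F a b)) := by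
  have h1 := Cfsg.Agent.S0288.result hF m (by omega) a b hab
  have h2 := Cfsg.Agent.S0294.result hF m hm a b hab
  refine AbOrGap.section (c := 2 * Nat.gcd 4 (q ^ m + 1)) (Omega F (quadFormMinus (m - 1) F a b)) (Subgroup.center _) ?_
    (hp.out.not_dvd_mul (not_dvd_two hF hp2 hpq) (not_dvd_gcd_four hF hp2 hpq _))
    (abOrGap_isoMinus hF hp2 hpq (by omega) a b hab)
  rw [h1, mul_assoc 2 (Nat.gcd _ _), h2]
  ring

end

end Cfsg.Agent.H567.Gap
end

-- part: H567/GapSp
section
/-!
# Symplectic groups in cross characteristic: abelian Sylow subgroups or an exponent gap (helper567)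
-/

set_option autoImplicit false
set_option linter.unusedSectionVars false

namespace Cfsg.Agent.H567.Gap

open Finset Cfsg

section
variable {F : Type} [Field F] [Fintype F] {p q : ℕ} [hp : Fact p.Prime]

theorem levi_injective (m : ℕ) : Function.Injective (Cfsg.Agent.H376.SpEmb.levi (F := F) (Fin m)) := by
  intro a b h
  have h1 := congrArg (fun x : Matrix.symplecticGroup (Fin m) F => (x : Matrix (Fin m ⊕ Fin m) (Fin m ⊕ Fin m) F)) h
  have h2 := (Matrix.fromBlocks_inj.1 h1).1
  exact Units.ext h2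

theorem abOrGap_Sp (hF : Fintype.card F = q) (hp2 : p ≠ 2) (hpq : ¬ p ∣ q) (m : ℕ) :
    AbOrGap p (Matrix.symplecticGroup (Fin m) F) := by
  have hq : 0 < q := by rw [← hF]; exact Fintype.card_pos
  have hc := Cfsg.Agent.S0245.result hF m
  rcases Nat.even_or_odd (orderOf (q : ZMod p)) with hev | ho
  · refine AbOrGap.of_le_GL (n := 2 * m) hF hpq (by simp only [_root_.Fintype.card_sum, _root_.Fintype.card_fin]; ring)
      ((Submonoid.subtype (Matrix.symplecticGroup (Fin m) F)).toHomUnits) ?_ ?_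
    · intro a b h
      exact Subtype.ext (congrArg Units.val h)
    · refine PLe.mk' (OO q m) (BB q m) (AA_two_mul q m) (not_dvd_OO hq rfl hev _) ?_
      rw [hc]; exact Dvd.intro_left _ rfl
  · refine AbOrGap.of_GL_le (n := m) hF hpq (Cfsg.Agent.H376.SpEmb.levi (F := F) (Fin m)) (levi_injective m) ?_
    refine PLe.mk' (q ^ (m ^ 2) * SS q m) (AA q m) ?_ (hp.out.not_dvd_mul (not_dvd_base hpq _)
      (not_dvd_SS hq hp2 rfl ho _)) dvd_rfl
    rw [hc]
    have h := BB_eq q m
    unfold BB at h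
    rw [h]; ring

/-- **Symplectic groups.** -/
theorem abOrGap_PSp (hF : Fintype.card F = q) (hp2 : p ≠ 2) (hpq : ¬ p ∣ q) (m : ℕ) : AbOrGap p (PSp m F) := by
  refine AbOrGap.quotient _ ?_ (abOrGap_Sp hF hp2 hpq m)
  intro h
  obtain ⟨x, hx⟩ := exists_prime_orderOf_dvd_card' p h
  have h1 : x ^ 2 = 1 := Subtype.ext (Cfsg.Agent.H376.SpEmb.center_pow x.1 x.2)
  have h2 : p ∣ 2 := hx ▸ orderOf_dvd_of_pow_eq_one h1
  exact hp2 ((Nat.prime_dvd_prime_iff_eq hp.out Nat.prime_two).1 h2)

end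

end Cfsg.Agent.H567.Gap
end

-- part: H567/GapAlt
section
/-!
# Alternating groups: abelian Sylow subgroups or an exponent gap (helper567)
-/

set_option autoImplicit false
set_option linter.unusedSectionVars false

namespace Cfsg.Agent.H567.Gap

open Equiv
open scoped commutatorElement

section
variable {w r p : ℕ}

/-- the elementary abelian group generated by disjoint `p`-cycles -/
def shEnd (w r p : ℕ) : (Fin w → Multiplicative (ZMod p)) →* Function.End ((Fin w × ZMod p) ⊕ Fin r) where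
  toFun t := fun v => Sum.map (fun x : Fin w × ZMod p => (x.1, Multiplicative.toAdd (t x.1) + x.2)) id v
  map_one' := by
    funext v
    rcases v with ⟨j, x⟩ | y <;> simp <;> rfl
  map_mul' := by
    intro s t
    funext v
    rcases v with ⟨j, x⟩ | y
    · simp only [Sum.map_inl, Pi.mul_apply, toAdd_mul, add_assoc]
      rfl
    · rfl

/-- permutations -/
def sh (w r p : ℕ) : (Fin w → Multiplicative (ZMod p)) →* Perm ((Fin w × ZMod p) ⊕ Fin r) := (shEnd w r p).toHomPerm

theorem sh_inl (t : Fin w → Multiplicative (ZMod p)) (j : Fin w) (x : ZMod p) :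
    sh w r p t (Sum.inl (j, x)) = Sum.inl (j, Multiplicative.toAdd (t j) + x) := rfl

/-- the cycles -/
def cyc (w r p : ℕ) (i : Fin w) : Perm ((Fin w × ZMod p) ⊕ Fin r) := sh w r p (Pi.mulSingle i (Multiplicative.ofAdd 1))

theorem cyc_same (i : Fin w) (x : ZMod p) : cyc w r p i (Sum.inl (i, x)) = Sum.inl (i, 1 + x) := by
  rw [cyc, sh_inl, Pi.mulSingle_eq_same]; rfl

theorem cyc_ne {i j : Fin w} (h : j ≠ i) (x : ZMod p) : cyc w r p i (Sum.inl (j, x)) = Sum.inl (j, x) := by
  rw [cyc, sh_inl, Pi.mulSingle_eq_of_ne h, toAdd_one, zero_add]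

theorem cyc_inr (i : Fin w) (y : Fin r) : cyc w r p i (Sum.inr y) = Sum.inr y := rfl

theorem eq_inl_of_cyc_ne {i : Fin w} {v : (Fin w × ZMod p) ⊕ Fin r} (h : cyc w r p i v ≠ v) :
    ∃ x, v = Sum.inl (i, x) := by
  rcases v with ⟨j, x⟩ | y
  · by_cases hj : j = i
    · subst hj; exact ⟨x, rfl⟩
    · exact absurd (cyc_ne hj x) h
  · exact absurd (cyc_inr i y) h

theorem cyc_same_ne [hp : Fact p.Prime] (i : Fin w) (x : ZMod p) :
    cyc w r p i (Sum.inl (i, x)) ≠ Sum.inl (i, x) := by
  rw [cyc_same]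
  intro h
  have h1 : (1 : ZMod p) + x = x := by
    have := Sum.inl_injective h
    exact congrArg Prod.snd this
  have h2 : (1 : ZMod p) = 0 := add_eq_right.1 h1
  exact one_ne_zero h2

theorem pow_eq_one_of_commute_cyc [hp : Fact p.Prime] (hr : r < p) {z : Perm ((Fin w × ZMod p) ⊕ Fin r)} {k : ℕ}
    (hz : z ^ p ^ k = 1) (hc : ∀ i, z * cyc w r p i = cyc w r p i * z) : z ^ p = 1 := by
  have hc' : ∀ i v, z (cyc w r p i v) = cyc w r p i (z v) := fun i v => Equiv.congr_fun (hc i) v
  have h0 : ∀ i, ∃ a, z (Sum.inl (i, 0)) = Sum.inl (i, a) := by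
    intro i
    apply eq_inl_of_cyc_ne
    rw [← hc']
    intro h
    exact cyc_same_ne i 0 (z.injective h)
  choose f hf using h0
  have h1 : ∀ (i : Fin w) (m : ℕ), z (Sum.inl (i, (m : ZMod p))) = Sum.inl (i, (m : ZMod p) + f i) := by
    intro i m
    induction m with
    | zero => rw [Nat.cast_zero, hf, zero_add]
    | succ m ih =>
      have h2 := hc' i (Sum.inl (i, (m : ZMod p)))
      rw [cyc_same, ih, cyc_same] at h2
      rw [Nat.cast_add, Nat.cast_one, add_comm (m : ZMod p) 1, h2, add_assoc]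
  have h2 : ∀ (i : Fin w) (x : ZMod p), z (Sum.inl (i, x)) = Sum.inl (i, x + f i) := by
    intro i x
    obtain ⟨m, rfl⟩ := ZMod.natCast_zmod_surjective x
    exact h1 i m
  have h3 : ∀ (m : ℕ) (i : Fin w) (x : ZMod p), (z ^ m) (Sum.inl (i, x)) = Sum.inl (i, x + m * f i) := by
    intro m
    induction m with
    | zero => intro i x; simp
    | succ m ih =>
      intro i x
      rw [pow_succ, Perm.mul_apply, h2, ih]
      congr 2
      push_cast
      ring
  -- the remaining letters
  have h4 : ∀ y : Fin r, ∃ y', z (Sum.inr y) = Sum.inr y' := by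
    intro y
    rcases h : z (Sum.inr y) with ⟨i, x⟩ | y'
    · exfalso
      have h5 := hc' i (Sum.inr y)
      rw [cyc_inr, h] at h5
      exact cyc_same_ne i x h5.symm
    · exact ⟨y', rfl⟩
  have h5 : ∀ (m : ℕ) (y : Fin r), ∃ y', (z ^ m) (Sum.inr y) = Sum.inr y' := by
    intro m
    induction m with
    | zero => intro y; exact ⟨y, rfl⟩
    | succ m ih =>
      intro y
      obtain ⟨y1, h6⟩ := h4 y
      obtain ⟨y2, h7⟩ := ih y1
      exact ⟨y2, by rw [pow_succ, Perm.mul_apply, h6, h7]⟩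
  have hpos : 0 < p ^ k := pow_pos hp.out.pos k
  have hP : IsPGroup p ↥(Subgroup.zpowers z) := by
    rintro ⟨x, m, rfl⟩
    refine ⟨k, Subtype.ext ?_⟩
    show (z ^ m) ^ p ^ k = 1
    rw [← zpow_natCast, ← zpow_mul, mul_comm, zpow_mul, zpow_natCast, hz, one_zpow]
  have h6 : ∀ y : Fin r, z (Sum.inr y) = Sum.inr y := by
    intro y
    obtain ⟨n, hn⟩ := hP.card_orbit (Sum.inr y : (Fin w × ZMod p) ⊕ Fin r)
    have h7 : MulAction.orbit ↥(Subgroup.zpowers z) (Sum.inr y : (Fin w × ZMod p) ⊕ Fin r) ⊆ Set.range Sum.inr := by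
      rintro _ ⟨⟨g, hg⟩, rfl⟩
      obtain ⟨m, hm⟩ := (Subgroup.mem_zpowers_iff).1 hg
      have hm' : ∃ m' : ℕ, z ^ m' = g := by
        refine ⟨(m % (p ^ k : ℕ)).toNat, ?_⟩
        rw [← hm, ← zpow_natCast, Int.toNat_of_nonneg (Int.emod_nonneg _ (by exact_mod_cast hpos.ne')), Int.emod_def,
          zpow_sub, zpow_mul, zpow_natCast, hz, one_zpow, inv_one, mul_one]
      obtain ⟨m', hm'⟩ := hm'
      obtain ⟨y', hy'⟩ := h5 m' y
      refine ⟨y', ?_⟩
      rw [← hy', hm']
      rfl
    have h8 : Nat.card (MulAction.orbit ↥(Subgroup.zpowers z) (Sum.inr y : (Fin w × ZMod p) ⊕ Fin r)) ≤ r := by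
      have h9 := Nat.card_mono (Set.toFinite _) h7
      refine h9.trans (le_of_eq ?_)
      rw [Nat.card_range_of_injective Sum.inr_injective, Nat.card_eq_fintype_card, Fintype.card_fin]
    have h10 : n = 0 := by
      by_contra hn0
      have h11 : p ≤ p ^ n := Nat.le_self_pow hn0 p
      omega
    rw [h10, pow_zero] at hn
    have h12 := Nat.card_eq_one_iff_unique.1 hn
    have h13 : (⟨z • (Sum.inr y : (Fin w × ZMod p) ⊕ Fin r), ⟨⟨z, Subgroup.mem_zpowers z⟩, rfl⟩⟩ :
        MulAction.orbit ↥(Subgroup.zpowers z) (Sum.inr y : (Fin w × ZMod p) ⊕ Fin r)) =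
        ⟨Sum.inr y, MulAction.mem_orbit_self _⟩ := h12.1.elim _ _
    exact congrArg Subtype.val h13
  have h7 : ∀ (m : ℕ) (y : Fin r), (z ^ m) (Sum.inr y) = Sum.inr y := by
    intro m
    induction m with
    | zero => intro y; rfl
    | succ m ih => intro y; rw [pow_succ, Perm.mul_apply, h6, ih]
  ext v
  rcases v with ⟨i, x⟩ | y
  · rw [h3, CharP.cast_eq_zero, zero_mul, add_zero]; rfl
  · rw [h7]; rfl

end

/-- **Symmetric groups.** -/
theorem abOrGap_perm {p : ℕ} [hp : Fact p.Prime] (n : ℕ) : AbOrGap p (Perm (Fin n)) := by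
  classical
  by_cases hn : n < p ^ 2
  · intro P
    left
    have h1 := H499.WreathDl.perm_upper (k := 1) (by rw [Nat.card_eq_fintype_card, Fintype.card_fin]; exact hn)
      (P : Subgroup (Perm (Fin n))) P.2
    rw [derivedSeries_one] at h1
    intro a b
    have h2 : ⁅a, b⁆ ∈ commutator ↥(P : Subgroup (Perm (Fin n))) :=
      Subgroup.commutator_mem_commutator (Subgroup.mem_top a) (Subgroup.mem_top b)
    rw [h1, Subgroup.mem_bot] at h2
    exact commutatorElement_eq_one_iff_mul_comm.1 h2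
  push Not at hn
  let w := n / p
  let r := n % p
  have hr : r < p := Nat.mod_lt _ hp.out.pos
  have hcard : Fintype.card ((Fin w × ZMod p) ⊕ Fin r) = n := by
    rw [Fintype.card_sum, Fintype.card_prod, ZMod.card, Fintype.card_fin, Fintype.card_fin]
    exact Nat.div_add_mod' n p
  let eqv : Perm ((Fin w × ZMod p) ⊕ Fin r) ≃* Perm (Fin n) :=
    (Fintype.equivFinOfCardEq hcard).permCongrHom
  refine AbOrGap.congr eqv ?_
  have hDp : IsPGroup p ↥(sh w r p).range := by
    rintro ⟨_, t, rfl⟩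
    refine ⟨1, Subtype.ext ?_⟩
    show (sh w r p t) ^ p ^ 1 = 1
    rw [← map_pow, pow_one]
    have : t ^ p = 1 := by
      funext j
      rw [Pi.pow_apply, Pi.one_apply]
      apply Multiplicative.toAdd.injective
      rw [toAdd_pow, toAdd_one, nsmul_eq_mul, CharP.cast_eq_zero, zero_mul]
    rw [this, map_one]
  obtain ⟨P, hP⟩ := hDp.exists_le_sylow
  refine AbOrGap.of_exists P (Or.inr ⟨p, ?_, ?_⟩)
  · rintro ⟨z, hz⟩ hzc
    obtain ⟨k, hk⟩ := P.isPGroup' ⟨z, hz⟩
    have hk' : z ^ p ^ k = 1 := congrArg Subtype.val hk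
    refine Subtype.ext ?_
    refine pow_eq_one_of_commute_cyc hr hk' fun i => ?_
    have h2 := hzc ⟨cyc w r p i, hP ⟨_, rfl⟩⟩
    exact (congrArg Subtype.val h2).symm
  · have hcl : Fintype.card (Multiplicative (ZMod (p ^ 2))) ≤ Fintype.card ((Fin w × ZMod p) ⊕ Fin r) := by
      rw [hcard, Fintype.card_multiplicative, ZMod.card]; exact hn
    obtain ⟨ι⟩ := Function.Embedding.nonempty_of_card_le hcl
    have hf : Function.Injective ((Perm.viaEmbeddingHom ι).comp
        (MulAction.toPermHom (Multiplicative (ZMod (p ^ 2))) (Multiplicative (ZMod (p ^ 2))))) :=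
      (Perm.viaEmbeddingHom_injective ι).comp MulAction.toPerm_injective
    have hYp : IsPGroup p (Multiplicative (ZMod (p ^ 2))) := IsPGroup.of_card (n := 2) (by
      rw [Nat.card_eq_fintype_card]; simp)
    obtain ⟨g, hg⟩ := H499.WreathDl.exists_hom_sylow hYp _ hf P
    refine ⟨g (Multiplicative.ofAdd 1), ?_⟩
    rw [← map_pow]
    intro h1
    have h2 := hg (h1.trans (map_one g).symm)
    have h3 : ((p : ℕ) : ZMod (p ^ 2)) = 0 := by
      have h4 := congrArg Multiplicative.toAdd h2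
      rw [toAdd_pow, toAdd_ofAdd, toAdd_one, nsmul_eq_mul, mul_one] at h4
      exact h4
    rw [ZMod.natCast_eq_zero_iff] at h3
    have h4 := Nat.le_of_dvd hp.out.pos h3
    have h5 := hp.out.one_lt
    nlinarith only [h4, h5]

/-- **Alternating groups.** -/
theorem abOrGap_alternating {p : ℕ} [hp : Fact p.Prime] (hp2 : p ≠ 2) {n : ℕ} (hn : 2 ≤ n) :
    AbOrGap p (alternatingGroup (Fin n)) := by
  have : Nontrivial (Fin n) := Fin.nontrivial_iff_two_le.2 hn
  refine AbOrGap.subgroup _ ?_ (abOrGap_perm n)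
  rw [alternatingGroup.index_eq_two]
  intro h
  exact hp2 ((Nat.prime_dvd_prime_iff_eq hp.out Nat.prime_two).1 h)

end Cfsg.Agent.H567.Gap
end

-- part: H567/PCentClassical
section
/-!
# Alternating and classical simple groups all of whose `p`-elements are `p`-central (helper567)

`comm_classical` : `p` odd, `G` an alternating or classical simple group all of whose `p`-elements have class size prime
to `p`: the Sylow `p`-subgroups of `G` are abelian.
-/

set_option autoImplicit false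

namespace Cfsg.Agent.H567.Gap

open Cfsg Cfsg.Agent.H573

theorem charP_of_dvd_card {F : Type*} [Field F] [Fintype F] {p : ℕ} [hp : Fact p.Prime] (h : p ∣ Fintype.card F) :
    CharP F p := by
  obtain ⟨r, hr⟩ := CharP.exists F
  obtain ⟨k, hrp, hk⟩ := FiniteField.card F r
  rw [hk] at h
  have : p = r := (Nat.prime_dvd_prime_iff_eq hp.out hrp).1 (hp.out.dvd_of_dvd_pow h)
  rw [this]; exact hr

/-- transport of the cross characteristic rows -/
theorem comm_of_equiv {G X : Type*} [Group G] [Group X] [Finite G] {p : ℕ} [Fact p.Prime] (e : G ≃* X)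
    (h : PCent p X → ∀ (P : Sylow p X) (a b : ↥(P : Subgroup X)), a * b = b * a) (hc : PCent p G) (P : Sylow p G) :
    IsMulCommutative P := by
  have : Finite X := Finite.of_equiv G e.toEquiv
  exact comm_equiv e.symm (fun Q => ⟨⟨h (pcent_equiv e hc) Q⟩⟩) P

theorem comm_of_equiv_gap {G X : Type*} [Group G] [Group X] [Finite G] {p : ℕ} [Fact p.Prime] (e : G ≃* X)
    (h : AbOrGap p X) (hc : PCent p G) (P : Sylow p G) : IsMulCommutative P := by
  have : Finite X := Finite.of_equiv G e.toEquiv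
  exact comm_of_equiv e (fun hX => h.comm_of_pcent hX) hc P

/-- **Alternating and classical groups.** -/
theorem comm_classical {G : Type*} [Group G] [Finite G] [IsSimpleGroup G] {p : ℕ} [hp : Fact p.Prime] (hp2 : p ≠ 2)
    (h : IsAlternating G ∨ IsPSL G ∨ IsPSp G ∨ IsPSU G ∨ IsPOmegaOdd G ∨ IsPOmegaPlus G ∨ IsPOmegaMinus G)
    (hc : PCent p G) (P : Sylow p G) : IsMulCommutative P := by
  by_cases hna : IsMulCommutative G
  · refine ⟨⟨fun a b => Subtype.ext ?_⟩⟩
    exact hna.is_comm.comm (a : G) (b : G)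
  rcases h with ⟨n, hn, ⟨e⟩⟩ | ⟨F, _, _, n, hn, h4, ⟨e⟩⟩ | ⟨F, _, _, m, hm, h3, ⟨e⟩⟩ | ⟨F, _, _, n, q, hF, hn, h3, ⟨e⟩⟩ |
    ⟨F, _, _, m, hm, ho, ⟨e⟩⟩ | ⟨F, _, _, m, hm, ⟨e⟩⟩ | ⟨F, _, _, m, a, b, hm, hab, ⟨e⟩⟩
  · exact comm_of_equiv_gap e (abOrGap_alternating hp2 (by omega)) hc P
  · by_cases hpF : p ∣ Fintype.card F
    · have := charP_of_dvd_card hpF
      exact comm_of_lie hp2 hna (Or.inl ⟨F, inferInstance, inferInstance, this, n, hn, h4, ⟨e⟩⟩) hc P
    · exact comm_of_equiv e (fun hX => comm_of_pcent_PSL hn hp2 hpF hX) hc P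
  · by_cases hpF : p ∣ Fintype.card F
    · have := charP_of_dvd_card hpF
      exact comm_of_lie hp2 hna (Or.inr (Or.inl ⟨F, inferInstance, inferInstance, this, m, hm, h3, ⟨e⟩⟩)) hc P
    · exact comm_of_equiv_gap e (abOrGap_PSp rfl hp2 hpF m) hc P
  · by_cases hpq : p ∣ q
    · have hpF : p ∣ Fintype.card F := by rw [hF]; exact hpq.trans (dvd_pow_self q two_ne_zero)
      have := charP_of_dvd_card hpF
      exact comm_of_lie hp2 hna (Or.inr (Or.inr (Or.inl ⟨F, inferInstance, inferInstance, this, n, q, hF, hn, h3, ⟨e⟩⟩))) hc P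
    · exact comm_of_equiv e (fun hX => comm_of_pcent_PSU hF hn hp2 hpq hX) hc P
  · by_cases hpF : p ∣ Fintype.card F
    · have := charP_of_dvd_card hpF
      exact comm_of_lie hp2 hna (Or.inr (Or.inr (Or.inr (Or.inl ⟨F, inferInstance, inferInstance, this, m, hm, ho, ⟨e⟩⟩)))) hc P
    · exact comm_of_equiv_gap e (abOrGap_POmegaOdd rfl hp2 hpF ho hm) hc P
  · by_cases hpF : p ∣ Fintype.card F
    · have := charP_of_dvd_card hpF
      exact comm_of_lie hp2 hna (Or.inr (Or.inr (Or.inr (Or.inr (Or.inl ⟨F, inferInstance, inferInstance, this, m, hm, ⟨e⟩⟩))))) hc P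
    · exact comm_of_equiv_gap e (abOrGap_POmegaPlus rfl hp2 hpF hm) hc P
  · by_cases hpF : p ∣ Fintype.card F
    · have := charP_of_dvd_card hpF
      exact comm_of_lie hp2 hna
        (Or.inr (Or.inr (Or.inr (Or.inr (Or.inr (Or.inl ⟨F, inferInstance, inferInstance, this, m, a, b, hm, hab, ⟨e⟩⟩)))))) hc P
    · exact comm_of_equiv_gap e (abOrGap_POmegaMinus rfl hp2 hpF hm a b hab) hc P

end Cfsg.Agent.H567.Gap
end

-- part: H567/PCentSeven
section
/-!
# Groups all of whose `p`-elements are `p`-central, `p ≥ 7` (helper567)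

* `known_seven` : a known simple group, `p ≥ 7`;
* `comm_of_simple` : the reduction from finite groups to simple groups.
-/

set_option autoImplicit false

universe u

namespace Cfsg.Agent.H567.PCentSeven

open Cfsg Cfsg.Agent.H573

theorem comm_of_prime {G : Type*} [Group G] {p : ℕ} (h : (Nat.card G).Prime) (P : Sylow p G) :
    IsMulCommutative P := by
  have h1 : Fact (Nat.card G).Prime := ⟨h⟩
  have hc : IsCyclic G := isCyclic_of_prime_card (p := Nat.card G) rfl
  exact ⟨⟨fun a b => Subtype.ext (hc.isMulCommutative.is_comm.comm (a : G) (b : G))⟩⟩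

theorem known_seven {G : Type*} [Group G] [Finite G] [IsSimpleGroup G] (hG : IsKnownSimple' G) {p : ℕ}
    [hp : Fact p.Prime] (h7 : 7 ≤ p) (hc : PCent p G) (P : Sylow p G) : IsMulCommutative P := by
  have hp2 : p ≠ 2 := by omega
  rcases hG with h | h | h | h | h | h | h | h | h | h
  · exact comm_of_prime h P
  · exact Gap.comm_classical hp2 (Or.inl h) hc P
  · exact Gap.comm_classical hp2 (Or.inr (Or.inl h)) hc P
  · exact Gap.comm_classical hp2 (Or.inr (Or.inr (Or.inl h))) hc P
  · exact Gap.comm_classical hp2 (Or.inr (Or.inr (Or.inr (Or.inl h)))) hc P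
  · exact Gap.comm_classical hp2 (Or.inr (Or.inr (Or.inr (Or.inr (Or.inl h))))) hc P
  · exact Gap.comm_classical hp2 (Or.inr (Or.inr (Or.inr (Or.inr (Or.inr (Or.inl h)))))) hc P
  · exact Gap.comm_classical hp2 (Or.inr (Or.inr (Or.inr (Or.inr (Or.inr (Or.inr h)))))) hc P
  · exact H778.Exc.comm_seven h7 h hc P
  · exact PCentSpor.spor_seven h h7 hc P

/-- the reduction to simple groups -/
theorem comm_of_simple {p : ℕ} [hp : Fact p.Prime]
    (hs : ∀ (S : Type u) [Group S] [Finite S] [IsSimpleGroup S], PCent p S → ∀ P : Sylow p S, IsMulCommutative P) :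
    ∀ (n : ℕ) (G : Type u) [Group G] [Finite G], Nat.card G = n → PCent p G → ∀ P : Sylow p G, IsMulCommutative P := by
  intro n
  induction n using Nat.strong_induction_on with
  | _ n ih =>
    intro G _ _ hn hc P
    by_cases hsub : Subsingleton G
    · exact ⟨⟨fun a b => Subsingleton.elim _ _⟩⟩
    have hnt : Nontrivial G := not_subsingleton_iff_nontrivial.1 hsub
    by_cases hS : IsSimpleGroup G
    · exact hs G hc P
    obtain ⟨N, hN, hb, ht⟩ : ∃ N : Subgroup G, N.Normal ∧ N ≠ ⊥ ∧ N ≠ ⊤ := by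
      by_contra hcon
      push Not at hcon
      refine hS ⟨fun N hN => ?_⟩
      by_cases hb : N = ⊥
      · exact Or.inl hb
      · exact Or.inr (hcon N hN hb)
    have h1 := Subgroup.card_eq_card_quotient_mul_card_subgroup N
    have h2 : 1 < Nat.card ↥N := by
      have : Nontrivial ↥N := (Subgroup.nontrivial_iff_ne_bot N).2 hb
      exact Finite.one_lt_card
    have h3 : Nat.card ↥N < Nat.card G := by
      rcases Nat.lt_or_ge (Nat.card ↥N) (Nat.card G) with h | h
      · exact h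
      · exact absurd (Subgroup.eq_top_of_le_card N h) ht
    have h4 : Nat.card (G ⧸ N) < Nat.card G := by
      have h5 : 0 < Nat.card (G ⧸ N) := Nat.card_pos
      rw [h1]
      nlinarith only [h1, h2, h3]
    exact abelian_of_normal hc N (ih _ (hn ▸ h3) ↥N rfl (pcent_normal hc N))
      (ih _ (hn ▸ h4) (G ⧸ N) rfl (pcent_quotient hc N)) P

end Cfsg.Agent.H567.PCentSeven
end

private theorem dce_4aec6036dede : _root_.True := by
  try have : _root_.True := by simp only [_root_.Cfsg.Agent.H567.Gap.cyc.eq_1]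
  try have : _root_.True := by simp only [_root_.Equiv.sumSumSumComm.eq_1]
  try have : _root_.True := by simp only [_root_.Cfsg.Agent.H567.Gap.plusEquiv.eq_1]
  exact _root_.True.intro
end
end
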